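import Cfsg.Agent.RS.R

/-! Lines of abstract root subgroups. -/
namespace RS
open Cfsg Subgroup Relation
open scoped commutatorElement

variable {G : Type*} [Group G] {S : Set (Subgroup G)} {A B C D E F P : Subgroup G} {a b c d g x z : G}

theorem T3.mul_eq (h : T3 S A B) (ha : a ∈ A) (a1 : a ≠ 1) (hc : c ∈ ⁅A, B⁆) :
    ∃ b ∈ B, a * c = b * a * b⁻¹ := by
  obtain ⟨b, hb, rfl⟩ := h.sA _ (inv_mem ha) (inv_ne_one.2 a1) c hc
  have := cen_of h.cA (commutator_mem_commutator (inv_mem ha) hb) ha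
  exact ⟨b, hb, by simp [commutatorElement_def, mul_assoc]⟩

theorem T3.sup_cj (h : T3 S A B) (hb : b ∈ B) (b1 : b ≠ 1) : A ⊔ conjBy A b = A ⊔ ⁅A, B⁆ := by
  refine le_antisymm (sup_le le_sup_left (cj_le_comm hb)) (sup_le le_sup_left fun c hc => ?_)
  obtain ⟨a, ha, rfl⟩ := h.sB b hb b1 c hc
  have := Subgroup.mul_mem _ (mem_sup_left (T := conjBy A b) ha) (mem_sup_right (cj_mem (inv_mem ha) b))
  simpa [commutatorElement_def, mul_assoc] using this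

theorem T3.conj (hS : Rt S) (hA : A ∈ S) (hB : B ∈ S) (h : T3 S A B) (g : G) :
    T3 S (conjBy A g) (conjBy B g) :=
  hS.t3 (hS.cj hA g) (hS.cj hB g) (cj_comm (A := A) ▸ hS.cj h.mem g)

theorem T3.ne_bot (hS : Rt S) (h : T3 S A B) : ⁅A, B⁆ ≠ ⊥ := hS.ne_bot _ h.mem

theorem T3.not_r1 (hS : Rt S) (hA : A ∈ S) (h : T3 S A B) : ¬ R1 A B := fun h' => by
  obtain ⟨b, hb, b1⟩ := exists_ne_one h'.symm.ne_bot
  exact (h'.symm.cj_pair hb b1).not_comm (comm_mono (comm_sup (hS.ab hA) (comm_symm h.cA)) le_rfl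
    (cj_le_comm hb))

theorem special_of (h : R1 A B) {N : Subgroup G} (hN : ⁅N, N⁆ = ⊥) (hn : ∀ x ∈ A ⊔ B, conjBy N x = N)
    (q : ⁅⁅A, N⁆, A⁆ = ⊥) (hX : ∃ x ∈ A ⊔ B, ∃ y ∈ A ⊔ B, ∃ n ∈ N, ⁅y, ⁅x, n⁆⁆ ≠ 1) :
    IsSpecialRankOnePair A B := by
  classical
  letI : CommGroup N := { mul_comm := fun a b => Subtype.ext (cen_of hN a.2 b.2) }
  let ρ : G → Additive N →+ Additive N := fun g => if h : g ∈ normalizer (N : Set G) then
    MonoidHom.toAdditive (N.normalizerMonoidHom ⟨g, h⟩).toMonoidHom else AddMonoidHom.id _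
  have e : ∀ x ∈ A ⊔ B, ∀ v, ((ρ x v).toMul : G) = x * v.toMul * x⁻¹ := fun x hx v => by
    simp only [ρ, dif_pos (cj_eq_iff.1 (hn x hx))]; rfl
  have ext : ∀ u v : Additive N, (u.toMul : G) = v.toMul → u = v := fun u v h => Subtype.ext h
  have e' : ∀ x ∈ A ⊔ B, ∀ v, ((ρ x v - v).toMul : G) = ⁅x, (v.toMul : G)⁆ := fun x hx v => by
    rw [toMul_sub, div_eq_mul_inv, coe_mul, e x hx]; rfl
  obtain ⟨x, hx, y, hy, n, hn', ne⟩ := hX
  refine QM.special (ρ := ρ) ⟨h, fun x hx y hy v => ext _ _ ?_, fun v => ext _ _ ?_,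
    fun a ha a' ha' v => ext _ _ ?_⟩ fun k => ne ?_
  · rw [e _ (mul_mem hx hy), e x hx, e y hy]; group
  · rw [e _ (one_mem _)]; group
  · rw [e _ (mem_sup_left ha'), e' _ (mem_sup_left ha),
      ← cen_of q (commutator_mem_commutator ha v.toMul.2) ha']; group
  · have := congrArg (fun v : Additive N => (v.toMul : G)) (k x hx (.ofMul ⟨n, hn'⟩) y hy)
    simp only [e y hy, e' x hx] at this
    rw [commutatorElement_def, mul_inv_eq_one]; exact this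

namespace Rt

theorem lineL (hS : Rt S) (hA : A ∈ S) (hF : F ∈ S) (h : R1 A F) (hP : Ln S A P) (hB : B ∈ S)
    (le : B ≤ A ⊔ P) (ne : B ≠ A) (n : ¬ R1 B F) :
    T3 S B F ∧ T3 S A ⁅B, F⁆ ∧ ⁅A, ⁅B, F⁆⁆ = B := by
  have AB : ⁅A, B⁆ = ⊥ := comm_mono (hP.ab hS hA) le_sup_left le
  have nA : NI S A := ⟨hA, F, hF, h⟩
  have nF : NI S F := ⟨hF, A, hA, h.symm⟩
  have rt : ∀ a ∈ A, a ≠ 1 → ∀ b ∈ B, ∃ D ∈ S, b * a ∈ D := fun a ha a1 b hb => by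
    obtain ⟨D, i, -, j⟩ := hP.ex (mul_mem (le hb) (mem_sup_left ha)) fun e =>
      ne (hS.eq_of_mem nA hB ha (eq_inv_of_mul_eq_one_right e ▸ inv_mem hb) a1).symm
    exact ⟨D, i, j⟩
  obtain ⟨a, ha, f, hf, a1, f1, e⟩ := h.ex
  obtain ⟨b, hb, b1⟩ := hS.ex hB
  have t1 : T3 S B F := ((hS.tri hB hF).resolve_left fun e => by
    obtain ⟨D, i, j⟩ := rt a ha a1 b hb
    exact b1 (hS.cen hF h (fun _ => cen_of (comm_sup (comm_symm AB) e) hb) ha a1 i j)).resolve_left n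
  have le2 := cj_le_comm (A := B) hf
  have t2 : T3 S A ⁅B, F⁆ := ((hS.tri hA t1.mem).resolve_left fun e => by
    have := RS.comm_cj (comm_mono (comm_sup AB e) le_rfl le2) f⁻¹
    rw [cj_inv_cj] at this
    have := sup_comm' AB this
    rw [h.symm.cj_sup' (inv_mem hf) (inv_ne_one.2 f1)] at this
    exact t1.ne_bot hS (comm_symm (comm_mono this le_sup_left le_rfl))).resolve_left fun e => by
      have i := commutator_mem_commutator (inv_mem hb) hf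
      refine b1 (hS.cen hA e.symm (fun _ => cen_of (comm_symm (sup_comm' t1.cA AB)) hb) i
        (fun e => b1 ?_) (hS.cj hB f) (by simpa [commutatorElement_def, mul_assoc] using cj_mem hb f))
      simpa using hS.inj nF t1.symm hf (inv_mem hb) f1 (by rw [← commutatorElement_inv, e, inv_one])
  refine ⟨t1, t2, (hS.le_eq nA t2 hB fun b hb => ?_).symm⟩
  have i := commutator_mem_commutator (inv_mem hb) hf
  have j := commutator_mem_commutator (inv_mem ha) (inv_mem i)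
  obtain ⟨u, hu, e2⟩ := t2.mul_eq ha a1 j
  set c := ⁅a⁻¹, ⁅b⁻¹, f⁆⁻¹⁆ with hc
  have h2 := h.conj u
  rw [cj_of_comm (A := F) fun y hy => (cen_of t1.cB hu hy).symm] at h2
  obtain ⟨D, l, m⟩ := rt a ha a1 b hb
  have c1 := cen_of t2.cA j ha
  have zA := sup_comm' (comm_symm AB) t2.cA
  have zE := sup_comm' (comm_symm t1.cA) t2.cB
  have zm : b * c⁻¹ ∈ B ⊔ ⁅A, ⁅B, F⁆⁆ := mul_mem (mem_sup_left hb) (mem_sup_right (inv_mem j))
  have := hS.cen (z := b * c⁻¹) hF h2 (comm_elt (fun y hy => cen_of (comm_sup zA zE) zm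
    (cj_le le_sup_left (mem_sup_right hu) hy)) fun y hy => ?_) (cj_mem ha u)
    (mt conj_eq_one_iff.1 a1) l (by rwa [← e2, ← c1, mul_assoc, inv_mul_cancel_left])
  · exact mul_inv_eq_one.1 this ▸ j
  · have k := RS.comm_cj AB f
    rw [e] at k
    have k2 := RS.comm_cj k a⁻¹
    rw [cj_inv_cj] at k2
    have k3 := cen_of k2 hy (cj_mem (cj_mem hb f) a⁻¹)
    have k4 := cen_of t1.cB i hy
    have k5 := cen_of AB ha hb
    rw [show a⁻¹ * (f * b * f⁻¹) * a⁻¹⁻¹ = b * c⁻¹ * ⁅b⁻¹, f⁆ by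
      rw [mul_assoc b, cen_of t2.cB (inv_mem j) i, hc]
      calc _ = a⁻¹ * (b * a) * (a⁻¹ * ⁅b⁻¹, f⁆ * a) := by simp only [commutatorElement_def]; group
        _ = _ := by rw [← k5]; simp only [commutatorElement_def]; group] at k3
    apply mul_right_cancel (b := ⁅b⁻¹, f⁆)
    rw [mul_assoc _ y, ← k4, ← mul_assoc, ← k3, mul_assoc y]

theorem third (hS : Rt S) (hA : NI S A) (h : R1 A F) (t : T3 S A E) (hE : ⁅E, F⁆ = ⊥) (hD : D ∈ S)
    (le : D ≤ A ⊔ ⁅A, E⁆) (ne : D ≠ ⁅A, E⁆) : R1 D F := by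
  obtain ⟨e, he, rfl⟩ := (hS.members hA t hD le).resolve_right ne
  have := h.conj e
  rwa [cj_of_comm (A := F) fun y hy => (cen_of hE he hy).symm] at this

theorem lineM (hS : Rt S) (hA : A ∈ S) (hF : F ∈ S) (h : R1 A F) (hP : Ln S A P) :
    ∃ B ∈ S, T3 S B F ∧ T3 S A ⁅B, F⁆ ∧ ⁅A, ⁅B, F⁆⁆ = B ∧ A ⊔ B = A ⊔ P := by
  by_cases h1 : R1 P F
  swap
  · obtain ⟨i, j, k⟩ := hS.lineL hA hF h hP hP.mem le_sup_right hP.ne h1
    exact ⟨P, hP.mem, i, j, k, rfl⟩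
  have nA : NI S A := ⟨hA, F, hF, h⟩
  obtain ⟨a, ha, f, hf, a1, f1, e⟩ := h.ex
  obtain ⟨p, hp, p1, e'⟩ := h1.right hf f1
  have pA : p ∉ A := fun i => hP.ne (hS.eq_of_mem nA hP.mem i hp p1).symm
  have n1 : a⁻¹ * p ≠ 1 := fun i => pA (inv_mul_eq_one.1 i ▸ ha)
  obtain ⟨B, hB, le, m⟩ := hP.ex (mul_mem (mem_sup_left (inv_mem ha)) (mem_sup_right hp)) n1
  obtain ⟨i, j, k⟩ := hS.lineL hA hF h hP hB le
    (fun e => pA ((A.mul_mem_cancel_left (inv_mem ha)).1 (e.le m))) fun l => by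
      have k := RS.comm_cj (RS.comm_cj hP.comm f) a⁻¹
      rw [e, e', cj_inv_cj, cj_cj] at k
      exact (l.cj_pair m n1).not_comm k
  refine ⟨B, hB, i, j, k, ?_⟩
  obtain ⟨u, hu, e2⟩ := j.mul_mem ha a1 (k.ge m)
  rw [mul_inv_cancel_left] at e2
  have := hS.eq_of_mem (hS.ni_cj nA u) hP.mem e2 hp p1
  rw [← this, j.sup_cj hu (by rintro rfl; exact hP.ne (by simpa using this.symm)), k]

theorem lineN (hS : Rt S) (hA : NI S A) (hP : Ln S A P) :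
    ∃ E ∈ S, T3 S A E ∧ A ⊔ ⁅A, E⁆ = A ⊔ P := by
  obtain ⟨hA, F, hF, h⟩ := hA
  obtain ⟨B, -, i, j, k, l⟩ := hS.lineM hA hF h hP
  exact ⟨_, i.mem, j, by rw [k, l]⟩

/-- every point of a line is a commutator -/
theorem lineP (hS : Rt S) (hN : ∀ A ∈ S, NI S A) (hA : A ∈ S) (hP : Ln S A P) :
    ∃ E ∈ S, T3 S A E ∧ ⁅A, E⁆ = P := by
  obtain ⟨E, hE, t, e⟩ := hS.lineN (hN A hA) hP
  rcases hS.members (hN A hA) t hP.mem (e ▸ le_sup_right) with ⟨u, hu, rfl⟩ | h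
  swap
  · exact ⟨E, hE, t, h.symm⟩
  obtain ⟨F, hF, t', e'⟩ := hS.lineN (hN _ t.mem) (hS.ln (hN A hA) t)
  obtain ⟨v, hv, e1⟩ := (hS.members (hN A hA) t t'.mem (le_sup_right.trans (e'.le.trans
    (sup_comm _ _).le))).resolve_right (hS.ne_comm t').symm
  have t2 := t'.conj hS t.mem hF (u * v⁻¹)
  have e2 := cj_comm (A := ⁅A, E⁆) (B := F) (g := u * v⁻¹)
  rw [cj_of_comm (A := ⁅A, E⁆) fun c hc => cen_of t.cB hc (mul_mem hu (inv_mem hv))] at t2 e2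
  rw [← e1, cj_cj, inv_mul_cancel_right] at e2
  obtain ⟨w, hw, e3⟩ := (hS.members (hN _ t.mem) t2 hA (by
    rw [← e2, sup_comm, t.cj_sup hu]; exact le_sup_left)).resolve_right (e2 ▸ hP.ne.symm)
  have t3 := t2.conj hS t.mem (hS.cj hF _) w
  have e4 := cj_comm (A := ⁅A, E⁆) (B := conjBy F (u * v⁻¹)) (g := w)
  rw [cj_self hw, e3] at t3 e4
  exact ⟨_, hS.cj hF _, t3, by
    rw [← e4, cj_of_comm fun c hc => cen_of t2.cB hc hw, e2]⟩

end Rt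

theorem norm_sup (h1 : ⁅B, A⁆ = ⊥) (h2 : ⁅C, A⁆ = B) : ∀ a ∈ A, conjBy (B ⊔ C) a = B ⊔ C := by
  have : ∀ a ∈ A, conjBy (B ⊔ C) a ≤ B ⊔ C := fun a ha => by
    rw [cj_sup, cj_of_comm fun b hb => cen_of h1 hb ha]
    exact sup_le le_sup_left ((cj_le_comm ha).trans (by rw [h2, sup_comm]))
  refine fun a ha => le_antisymm (this a ha) ?_
  simpa [cj_cj] using cj_mono (g := a) (this _ (inv_mem ha))

theorem comm_mem (h1 : ⁅B, A⁆ = ⊥) (h2 : ⁅A, C⁆ = B) (h3 : ⁅B, C⁆ = ⊥) (ha : a ∈ A)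
    (hx : x ∈ B ⊔ C) : ⁅a, x⁆ ∈ B := by
  obtain ⟨b, hb, c, hc, rfl⟩ := (mem_sup_comm h3).1 hx
  have := mul_mem (mul_mem hb (h2.le (commutator_mem_commutator ha hc))) (inv_mem hb)
  rwa [show b * ⁅a, c⁆ * b⁻¹ = ⁅a, b * c⁆ by
    simp only [commutatorElement_def]; rw [← mul_assoc a, ← cen_of h1 hb ha]; group] at this

namespace Rt

theorem special (hS : Rt S) (hA : A ∈ S) (hF : F ∈ S) (hB : B ∈ S) (h : R1 A F) (t1 : T3 S B F)
    (t2 : T3 S A ⁅B, F⁆) (e : ⁅A, ⁅B, F⁆⁆ = B) : IsSpecialRankOnePair A F := by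
  have AB : ⁅B, A⁆ = ⊥ := (congrArg (⁅·, A⁆) e).symm.trans t2.cA
  have k := norm_sup t1.cB rfl
  rw [sup_comm] at k
  refine special_of h (N := B ⊔ ⁅B, F⁆) (comm_sup (sup_comm' (hS.ab hB) t1.cA)
    (sup_comm' (comm_symm t1.cA) (hS.ab t1.mem)))
    (cj_of_sup (norm_sup AB ((commutator_comm _ _).trans e)) k) (comm_mono AB (commutator_le.2
      fun a ha n hn => comm_mem AB e (comm_symm t1.cA) ha hn) le_rfl) ?_
  obtain ⟨a, ha, f, hf, a1, f1, -⟩ := h.ex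
  obtain ⟨b, hb, b1⟩ := hS.ex hB
  exact ⟨f, mem_sup_right hf, a, mem_sup_left ha, b, mem_sup_left hb, fun i => b1
    (hS.inj ⟨hF, A, hA, h.symm⟩ t1.symm hf hb f1 (hS.inj ⟨hA, F, hF, h⟩ t2 ha
      ((commutator_comm F B).le (commutator_mem_commutator hf hb)) a1 i))⟩

theorem opp36 (hS : Rt S) (hB : B ∈ S) (hD : D ∈ S) (t1 : T3 S A B) (t2 : T3 S D ⁅A, B⁆)
    (e : ⁅D, ⁅A, B⁆⁆ = A) : R1 B D := by
  by_contra n
  obtain ⟨b, hb, b1⟩ := hS.ex hB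
  obtain ⟨d, hd, d1⟩ := hS.ex hD
  have k := cen_of (hS.comm_cj hD hB (fun i => n i.symm) hb) hd (cj_mem hd b)
  have AD : ⁅A, D⁆ = ⊥ := (congrArg (⁅·, D⁆) e).symm.trans t2.cA
  have n1 := norm_sup t1.cB rfl
  rw [sup_comm] at n1
  have n2 := cj_of_sup n1 (norm_sup AD ((commutator_comm _ _).trans e)) (b * d * b⁻¹)
    (mul_mem (mul_mem (mem_sup_left hb) (mem_sup_right hd)) (mem_sup_left (inv_mem hb)))
  have k1 : ∀ a ∈ A, b * d * b⁻¹ * a * (b * d * b⁻¹)⁻¹ ∈ A := fun a ha => by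
    obtain ⟨c, hc, rfl⟩ := t2.sA d hd d1 a (e.ge ha)
    have := comm_mem AD e (comm_symm t1.cA) hd (n2.le (cj_mem (mem_sup_right hc) _))
    generalize b * d * b⁻¹ = y at *
    rwa [show y * ⁅d, c⁆ * y⁻¹ = ⁅y * d * y⁻¹, y * c * y⁻¹⁆ by
      simp only [commutatorElement_def]; group, ← k, mul_inv_cancel_right]
  refine t2.ne_bot hS (comm_mono (comm_symm AD) le_rfl fun c hc => ?_)
  obtain ⟨a, ha, rfl⟩ := t1.sB _ hb b1 c hc
  obtain ⟨c, hc', e1⟩ := t2.sA d hd d1 _ (e.ge (inv_mem ha))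
  obtain ⟨u, hu, rfl⟩ := t1.sB _ hb b1 c hc'
  have := mul_mem ha (mul_mem (k1 u hu) (inv_mem hu))
  have k2 := cen_of AD (inv_mem hu) hd
  have k3 := cen_of t1.cB hc' hb
  rwa [show b * d * b⁻¹ * u * (b * d * b⁻¹)⁻¹ * u⁻¹ = b * a⁻¹ * b⁻¹ by
    rw [← e1]
    calc _ = b * d * b⁻¹ * u * b * u⁻¹ * (d * u⁻¹)⁻¹ * b⁻¹ * u⁻¹ := by group
      _ = b * d * b⁻¹ * (⁅u, b⁆ * b) * d⁻¹ * (⁅u, b⁆ * b)⁻¹ := by
          rw [← k2, commutatorElement_def]; group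
      _ = _ := by rw [k3, commutatorElement_def d]; group, ← mul_assoc, ← mul_assoc] at this

theorem not_ln (hS : Rt S) (hA : NI S A) (hB : NI S B) (h : Ln S A B) :
    ReflTransGen (FAdj S) A B := by
  by_contra n
  obtain ⟨hA', F, hF, h1⟩ := id hA
  obtain ⟨hB', F', hF', h2⟩ := id hB
  have p1 : ReflTransGen (FAdj S) A F := .single ⟨hA', hF, h1⟩
  have p2 : ReflTransGen (FAdj S) F' B := .single ⟨hF', hB', h2.symm⟩
  obtain ⟨i, j, k⟩ := hS.lineL hA' hF h1 h hB' le_sup_right h.ne fun e =>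
    n (p1.tail ⟨hF, hB', e.symm⟩)
  obtain ⟨i', j', k'⟩ := hS.lineL hB' hF' h2 (h.symm hA') hA' le_sup_right h.ne.symm fun e =>
    n (p2.head ⟨hA', hF', e⟩)
  obtain ⟨e, he, e1⟩ := hS.ex i.mem
  obtain ⟨a, ha, a1⟩ := hS.ex hA'
  have hD := hS.cj hA' e
  have le := cj_le_comm (A := A) he
  have ne : conjBy A e ≠ A := fun e' => hS.ne_comm j (by
    have := j.sup_cj he e1
    rw [e', sup_idem] at this
    obtain ⟨b, hb, b1⟩ := hS.ex j.mem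
    exact hS.eq_of_mem hA j.mem (this.ge (mem_sup_right hb)) hb b1)
  have r1 := hS.third hA h1 j i.cB hD le (fun e' => by
    have := j.conj hS hA' i.mem e
    rw [cj_self he, e'] at this
    exact this.ne_bot hS j.cB)
  have r2 := hS.third hB h2 j' i'.cB hD (by rw [k', sup_comm, ← k]; exact le) (by rwa [k'])
  exact n ((p2.head ⟨hD, hF', r2⟩).head ⟨hF, hD, r1.symm⟩ |>.head ⟨hA', hF, h1⟩)

theorem path_cj (hS : Rt S) (r : Subgroup G → Subgroup G → Prop)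
    (h : ∀ A ∈ S, ∀ B ∈ S, ∀ b ∈ B, ReflTransGen r A (conjBy A b)) (hA : A ∈ S) (g : G) :
    ReflTransGen r A (conjBy A g) := by
  have hg : g ∈ ⨆ A ∈ S, A := hS.generates ▸ mem_top g
  rw [← sSup_eq_iSup, sSup_eq_iSup'] at hg
  revert A
  refine iSup_induction (C := fun g => ∀ {A}, A ∈ S → ReflTransGen r A (conjBy A g)) _ hg
    (fun B b hb A hA => h A hA B B.2 b hb) (fun _ => by simpa using .refl) fun x y i j A hA => ?_
  rw [← cj_cj]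
  exact (j hA).trans (i (hS.cj hA y))

theorem conn (hS : Rt S) (hN : ∀ A ∈ S, NI S A) (hA : A ∈ S) (g : G) :
    ReflTransGen (FAdj S) A (conjBy A g) := by
  refine hS.path_cj _ (fun A hA B hB b hb => ?_) hA g
  rcases hS.tri hA hB with h | h | h
  · rw [cj_of_comm fun a ha => cen_of h ha hb]
  · have := h.symm.conj b
    rw [cj_self hb] at this
    exact .tail (.single ⟨hA, hB, h⟩) ⟨hB, hS.cj hA b, this⟩
  · by_cases e : conjBy A b = A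
    · rw [e]
    · exact hS.not_ln (hN A hA) (hN _ (hS.cj hA b)) ((hS.ln' (hN A hA) h).of_eq (hS.cj hA b) e
        (h.sup_cj hb (by rintro rfl; simp at e)) (hS.comm_cj hA hB (h.not_r1 hS hA) hb))

end Rt

theorem conj_of_path (h : ReflTransGen (FAdj S) A B) : ∃ g, B = conjBy A g := by
  induction h with
  | refl => exact ⟨1, cj_one.symm⟩
  | tail _ i j =>
    obtain ⟨g, rfl⟩ := j
    obtain ⟨w, -, e, -⟩ := R1.exists_swap i.2.2
    exact ⟨w * g, by rw [← cj_cj, e]⟩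

/-- classes of root subgroups -/
abbrev Cl (S : Set (Subgroup G)) : Prop := IsRootSubgroupClass S

namespace Cl

theorem ni (hS : Cl S) (h : ∃ A ∈ S, ∃ B ∈ S, R1 A B) : ∀ A ∈ S, NI S A := fun C hC => by
  obtain ⟨A, hA, h⟩ := h
  obtain ⟨g, rfl⟩ := hS.2.2 A hA C hC
  exact Rt.ni_cj hS.1 ⟨hA, h⟩ g

theorem exists_t3 (hS : Cl S) (h : IsNondegenerateRootSet S) (hA : A ∈ S) :
    ∃ P ∈ S, ∃ Q ∈ S, T3 S P Q ∧ ⁅P, Q⁆ = A := by
  obtain ⟨P, hP, Q, hQ, t⟩ := h.2.2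
  obtain ⟨g, rfl⟩ := hS.2.2 _ t.1 A hA
  exact ⟨_, Rt.cj hS.1 hP g, _, Rt.cj hS.1 hQ g, (t3_of t).conj hS.1 hP hQ g, cj_comm.symm⟩

theorem exists_ln (hS : Cl S) (h : IsNondegenerateRootSet S) (hA : A ∈ S) (hB : B ∈ S)
    (r : R1 A B) : ∃ C ∈ S, Ln S A C ∧ T3 S C B ∧ T3 S A ⁅C, B⁆ ∧ ⁅A, ⁅C, B⁆⁆ = C := by
  obtain ⟨P, hP, Q, hQ, t, rfl⟩ := hS.exists_t3 h hA
  obtain ⟨C, hC, i, j, k, -⟩ := Rt.lineM hS.1 hA hB r (Rt.ln hS.1 (hS.ni h.2.1 P hP) t)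
  exact ⟨C, hC, k ▸ Rt.ln' hS.1 (hS.ni h.2.1 _ hA) j, i, j, k⟩

theorem econn (hS : Cl S) (h : IsNondegenerateRootSet S) : IsConnectedFamily (EAdj S S) S := by
  have hS' : Rt S := hS.1
  have hN := hS.ni h.2.1
  intro A hA B hB
  obtain ⟨g, rfl⟩ := hS.2.2 A hA B hB
  refine hS'.path_cj _ (fun A hA B hB b hb => ?_) hA g
  rcases hS'.tri hA hB with t | t | t
  · rw [cj_of_comm fun a ha => cen_of t ha hb]
  · obtain ⟨C, hC, i, j, -⟩ := hS.exists_ln h hA hB t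
    have k := (hS'.ln (hN C hC) j).conj hS' b
    rw [cj_of_comm fun c hc => cen_of j.cB hc hb] at k
    exact .head ⟨hA, hC, i⟩ (.head ⟨hC, j.mem, hS'.ln' (hN C hC) j⟩ (.head ⟨j.mem, hS'.cj hC b, k⟩
      (.single ⟨hS'.cj hC b, hS'.cj hA b, (i.symm hA).conj hS' b⟩)))
  · by_cases e : conjBy A b = A
    · rw [e]
    · exact .single ⟨hA, hS'.cj hA b, (hS'.ln' (hN A hA) t).of_eq (hS'.cj hA b) e
        (t.sup_cj hb (by rintro rfl; simp at e)) (hS'.comm_cj hA hB (t.not_r1 hS' hA) hb)⟩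

theorem gen (hS : Cl S) (h : IsNondegenerateRootSet S) (hA : A ∈ S) (hB : B ∈ S) (r : R1 A B)
    {Y : Subgroup G} (h1 : ∀ C, Ln S A C → C ≤ Y) (h2 : B ≤ Y) : Y = ⊤ := by
  have hS' : Rt S := hS.1
  have hN := hS.ni h.2.1
  have k : ∀ y ∈ Y, ∀ C, Ln S (conjBy A y) C → C ≤ Y := fun y hy C hC => by
    have := hC.conj hS' y⁻¹
    rw [cj_inv_cj] at this
    simpa [cj_cj] using cj_le (h1 _ this) hy
  have AY : A ≤ Y := by
    obtain ⟨P, hP, Q, hQ, t, rfl⟩ := hS.exists_t3 h hA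
    have i := h1 P (hS'.ln (hN P hP) t)
    have j := h1 Q (commutator_comm P Q ▸ hS'.ln (hN Q hQ) t.symm)
    exact commutator_le.2 fun a ha b hb => mul_mem (mul_mem (mul_mem (i ha) (j hb))
      (inv_mem (i ha))) (inv_mem (j hb))
  obtain ⟨w, hw, e, -⟩ := r.exists_swap
  have hw' := sup_le AY h2 hw
  have k2 : ∀ C, Ln S A C → ∃ y ∈ Y, C = conjBy A y := fun C hC => by
    obtain ⟨D, hD, i, j, l, m⟩ := hS'.lineM hA hB r hC
    have EY : ⁅D, B⁆ ≤ Y := k w hw' _ (by rw [e, commutator_comm]; exact hS'.ln' (hN B hB) i.symm)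
    have k3 : ∀ C ∈ S, C ≤ A ⊔ D → C ≠ D → ∃ y ∈ Y, C = conjBy A y := fun C i1 i2 i3 => by
      obtain ⟨u, hu, rfl⟩ := (hS'.members (hN A hA) j i1 (l.symm ▸ i2)).resolve_right (l.symm ▸ i3)
      exact ⟨u, EY hu, rfl⟩
    by_cases e1 : C = D
    swap
    · exact k3 C hC.mem (m ▸ le_sup_right) e1
    subst e1
    obtain ⟨P, hP, t, e2⟩ := hS'.lineP hN hD (hC.symm hA)
    have PY : P ≤ Y := h1 P (e2 ▸ (commutator_comm C P ▸ hS'.ln (hN P hP) t.symm))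
    obtain ⟨p, hp, p1⟩ := hS'.ex hP
    obtain ⟨y, hy, e3⟩ := k3 _ (hS'.cj hD p) (sup_comm A C ▸ e2 ▸ cj_le_comm hp) fun e' => by
      have := t.sup_cj hp p1
      rw [e', sup_idem, e2] at this
      obtain ⟨a, ha, a1⟩ := hS'.ex hA
      exact hC.ne (hS'.eq_of_mem (hN A hA) hD ha (this.ge (mem_sup_right ha)) a1).symm
    exact ⟨p⁻¹ * y, mul_mem (inv_mem (PY hp)) hy, (cj_swap e3.symm).symm⟩
  have k4 : ∀ C, ReflTransGen (EAdj S S) A C → ∃ y ∈ Y, C = conjBy A y := fun C hC => by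
    induction hC with
    | refl => exact ⟨1, one_mem _, cj_one.symm⟩
    | tail _ i j =>
      obtain ⟨y, hy, rfl⟩ := j
      have := Ln.conj i.2.2 hS' y⁻¹
      rw [cj_inv_cj] at this
      obtain ⟨u, hu, e⟩ := k2 _ this
      exact ⟨y * u, mul_mem hy hu, by rw [← cj_cj, ← e, cj_cj_inv]⟩
  refine eq_top_iff.2 (hS'.generates ▸ iSup₂_le fun C hC => ?_)
  obtain ⟨y, hy, rfl⟩ := k4 C (hS.econn h A hA C hC)
  exact cj_le AY hy

end Cl
end RS
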