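import Mathlib
import Cfsg.Prelude.Def_RootSubgroups

/-! Rank one groups. -/
namespace RS
open Cfsg Subgroup

variable {G : Type*} [Group G] {A B C D : Subgroup G} {a b g h x : G}

theorem mem_cj : x ∈ conjBy A g ↔ g⁻¹ * x * g ∈ A :=
  ⟨by rintro ⟨y, hy, rfl⟩; simpa [mul_assoc] using hy, fun h => ⟨_, h, by simp [mul_assoc]⟩⟩

theorem cj_mem (ha : a ∈ A) (g : G) : g * a * g⁻¹ ∈ conjBy A g := ⟨a, ha, rfl⟩

theorem cj_mem' (ha : a ∈ A) (g : G) : g⁻¹ * a * g ∈ conjBy A g⁻¹ := ⟨a, ha, by simp⟩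

theorem cj_cj : conjBy (conjBy A g) h = conjBy A (h * g) := by
  ext; simp [mem_cj, mul_assoc]

@[simp] theorem cj_one : conjBy A 1 = A := by ext; simp [mem_cj]

theorem cj_inv_cj : conjBy (conjBy A g) g⁻¹ = A := by simp [cj_cj]

theorem cj_cj_inv : conjBy (conjBy A g⁻¹) g = A := by simp [cj_cj]

theorem cj_eq_iff : conjBy A g = A ↔ g ∈ normalizer (A : Set G) := by
  rw [← inv_mem_iff, mem_normalizer_iff]
  simp only [SetLike.ext_iff, mem_cj, inv_inv, SetLike.mem_coe]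
  exact forall_congr' fun _ => Iff.comm

theorem cj_self (h : a ∈ A) : conjBy A a = A := cj_eq_iff.2 (le_normalizer h)

theorem cj_inj (e : conjBy A g = conjBy B g) : A = B := by
  rw [← cj_inv_cj (A := A) (g := g), e, cj_inv_cj]

theorem cj_swap (e : conjBy A g = conjBy B h) : conjBy A (h⁻¹ * g) = B := by
  rw [← cj_cj, e, cj_inv_cj]

theorem cj_sup : conjBy (A ⊔ B) g = conjBy A g ⊔ conjBy B g := Subgroup.map_sup _ _ _

theorem cj_comm : conjBy ⁅A, B⁆ g = ⁅conjBy A g, conjBy B g⁆ := map_commutator _ _ _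

theorem cj_mono (h : A ≤ B) : conjBy A g ≤ conjBy B g := map_mono h

theorem cj_bot : conjBy A g = ⊥ ↔ A = ⊥ := map_eq_bot_iff_of_injective _ (MulAut.conj g).injective

theorem cj_le (h : A ≤ B) (hg : g ∈ B) : conjBy A g ≤ B := (cj_mono h).trans (cj_self hg).le

theorem comm_iff : ⁅A, B⁆ = ⊥ ↔ ∀ a ∈ A, ∀ b ∈ B, a * b = b * a := by
  rw [eq_bot_iff, commutator_le]
  simp only [mem_bot, commutatorElement_eq_one_iff_mul_comm]

theorem comm_symm (h : ⁅A, B⁆ = ⊥) : ⁅B, A⁆ = ⊥ := by rwa [commutator_comm]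

theorem comm_cj (h : ⁅A, B⁆ = ⊥) (g : G) : ⁅conjBy A g, conjBy B g⁆ = ⊥ := by
  rw [← cj_comm, cj_bot, h]

theorem comm_mono (h : ⁅A, B⁆ = ⊥) (h1 : C ≤ A) (h2 : D ≤ B) : ⁅C, D⁆ = ⊥ :=
  eq_bot_iff.2 ((commutator_mono h1 h2).trans h.le)

theorem comm_sup (h : ⁅A, B⁆ = ⊥) (h' : ⁅A, C⁆ = ⊥) : ⁅A, B ⊔ C⁆ = ⊥ := by
  rw [commutator_comm, commutator_eq_bot_iff_le_centralizer] at *
  exact sup_le h h'

theorem sup_comm' (h : ⁅A, C⁆ = ⊥) (h' : ⁅B, C⁆ = ⊥) : ⁅A ⊔ B, C⁆ = ⊥ :=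
  comm_symm (comm_sup (comm_symm h) (comm_symm h'))

theorem cj_of_comm (h : ∀ a ∈ A, a * g = g * a) : conjBy A g = A := by
  ext x
  rw [mem_cj]
  refine ⟨fun hx => ?_, fun hx => by rwa [mul_assoc, h x hx, inv_mul_cancel_left]⟩
  have := h _ hx
  rwa [show g⁻¹ * x * g = x from mul_right_cancel (this.trans (by group))] at hx

theorem comm_elt (h : ∀ a ∈ A, x * a = a * x) (h' : ∀ b ∈ B, x * b = b * x) :
    ∀ y ∈ A ⊔ B, x * y = y * x := fun y hy =>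
  ((sup_le (fun a ha => mem_centralizer_singleton_iff.2 (h a ha).symm)
    (fun a ha => mem_centralizer_singleton_iff.2 (h' a ha).symm) :
      A ⊔ B ≤ centralizer {x}) hy |> mem_centralizer_singleton_iff.1).symm

theorem cj_of_sup (h : ∀ a ∈ A, conjBy C a = C) (h' : ∀ b ∈ B, conjBy C b = C) :
    ∀ y ∈ A ⊔ B, conjBy C y = C := fun _ hy =>
  cj_eq_iff.2 ((sup_le (fun a ha => cj_eq_iff.1 (h a ha)) fun a ha => cj_eq_iff.1 (h' a ha) :
    A ⊔ B ≤ normalizer (C : Set G)) hy)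

theorem exists_ne_one (h : A ≠ ⊥) : ∃ a ∈ A, a ≠ 1 := by
  by_contra! h'; exact h (eq_bot_iff.2 h')

/-- rank one pair -/
abbrev R1 (A B : Subgroup G) : Prop := IsRankOnePair A B

/-- unipotent subgroups -/
abbrev Om (A B : Subgroup G) : Set (Subgroup G) := unipotentSubgroups A B

theorem cond_conj (h : RankOneCondition A B) (g : G) :
    RankOneCondition (conjBy A g) (conjBy B g) := by
  rintro _ ⟨a, ha, rfl⟩ h1
  obtain ⟨b, hb, b1, e⟩ := h a ha (by rintro rfl; simp at h1)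
  refine ⟨_, cj_mem hb g, by simpa using b1, ?_⟩
  have := congrArg (conjBy · g) e
  simpa [cj_cj, mul_assoc] using this

namespace R1

theorem symm (h : R1 A B) : R1 B A := RankOnePair_symm h

theorem conj (h : R1 A B) (g : G) : R1 (conjBy A g) (conjBy B g) :=
  haveI := h.nilpotent_left
  haveI := h.nilpotent_right
  ⟨fun e => h.ne (cj_inj e), nilpotent_of_mulEquiv (A.equivMapOfInjective _ (MulAut.conj g).injective),
    nilpotent_of_mulEquiv (B.equivMapOfInjective _ (MulAut.conj g).injective),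
    cond_conj h.cond_left g, cond_conj h.cond_right g⟩

theorem ne_bot (h : R1 A B) : A ≠ ⊥ := by
  rintro rfl
  obtain ⟨b, hb, b1⟩ := exists_ne_one h.ne.symm
  obtain ⟨a, ha, a1, -⟩ := h.cond_right b hb b1
  exact a1 ha

theorem norm (h : R1 A B) (ha : a ∈ A) (e : conjBy B a = B) : a = 1 := by
  by_contra a1
  obtain ⟨b, hb, -, e'⟩ := h.cond_left a⁻¹ (inv_mem ha) (by simpa)
  rw [inv_inv, e] at e'
  exact h.ne (cj_inj (e'.trans (cj_self (inv_mem hb)).symm))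

theorem uniq (h : R1 A B) {a' : G} (ha : a ∈ A) (ha' : a' ∈ A) (e : conjBy B a = conjBy B a') :
    a = a' := (inv_mul_eq_one.1 (h.norm (mul_mem (inv_mem ha') ha) (cj_swap e))).symm

theorem left (h : R1 A B) (ha : a ∈ A) (a1 : a ≠ 1) : ∃ b ∈ B, b ≠ 1 ∧ conjBy A b = conjBy B a := by
  obtain ⟨b, hb, b1, e⟩ := h.cond_left a⁻¹ (inv_mem ha) (by simpa)
  exact ⟨b⁻¹, inv_mem hb, by simpa, by simpa using e⟩

theorem right (h : R1 A B) (hb : b ∈ B) (b1 : b ≠ 1) :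
    ∃ a ∈ A, a ≠ 1 ∧ conjBy A b = conjBy B a := by
  obtain ⟨a, ha, a1, e⟩ := h.symm.left hb b1
  exact ⟨a, ha, a1, e.symm⟩

theorem ex (h : R1 A B) : ∃ a ∈ A, ∃ b ∈ B, a ≠ 1 ∧ b ≠ 1 ∧ conjBy A b = conjBy B a := by
  obtain ⟨a, ha, a1⟩ := exists_ne_one h.ne_bot
  obtain ⟨b, hb, b1, e⟩ := h.left ha a1
  exact ⟨a, ha, b, hb, a1, b1, e⟩

theorem swap_aux (h : R1 A B) (hC : C = A ∨ ∃ a ∈ A, C = conjBy B a) :
    C = B ∨ ∃ b ∈ B, C = conjBy A b := by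
  rcases hC with rfl | ⟨a, ha, rfl⟩
  · exact .inr ⟨1, one_mem _, cj_one.symm⟩
  · by_cases a1 : a = 1
    · exact .inl (by simp [a1])
    · obtain ⟨b, hb, -, e⟩ := h.left ha a1
      exact .inr ⟨b, hb, e.symm⟩

theorem mem_Om (h : R1 A B) : C ∈ Om A B ↔ C = A ∨ ∃ a ∈ A, C = conjBy B a := by
  constructor
  · rintro ⟨x, hx, rfl⟩
    have k : ∀ {A B : Subgroup G} {x : G}, x ∈ A → ∀ C, (C = A ∨ ∃ a ∈ A, C = conjBy B a) →
        (conjBy C x = A ∨ ∃ a ∈ A, conjBy C x = conjBy B a) := by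
      rintro A B x hx C (rfl | ⟨a, ha, rfl⟩)
      · exact .inl (cj_self hx)
      · exact .inr ⟨x * a, mul_mem hx ha, cj_cj⟩
    rw [sup_eq_closure] at hx
    suffices ∀ C, (C = A ∨ ∃ a ∈ A, C = conjBy B a) →
      (conjBy C x = A ∨ ∃ a ∈ A, conjBy C x = conjBy B a) from this A (.inl rfl)
    refine closure_induction'' (fun x hx => ?_) (fun x hx => ?_) (fun C h => by simpa using h)
      (fun x y _ _ h1 h2 C hC => cj_cj (A := C) ▸ h1 _ (h2 C hC)) hx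
    · rcases hx with hx | hx
      · exact k hx
      · exact fun C hC => h.symm.swap_aux (k hx C (h.swap_aux hC))
    · rcases hx with hx | hx
      · exact k (inv_mem hx)
      · exact fun C hC => h.symm.swap_aux (k (inv_mem hx) C (h.swap_aux hC))
  · rintro (rfl | ⟨a, ha, rfl⟩)
    · exact ⟨1, one_mem _, cj_one.symm⟩
    · obtain ⟨a', ha', b, hb, -, -, e⟩ := h.ex
      exact ⟨a * (a'⁻¹ * b), mul_mem (mem_sup_left ha)
        (mul_mem (mem_sup_left (inv_mem ha')) (mem_sup_right hb)), by rw [← cj_cj (h := a), cj_swap e]⟩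

end R1

theorem Om_left : A ∈ Om A B := ⟨1, one_mem _, cj_one.symm⟩

theorem Om_cj (hC : C ∈ Om A B) (hx : x ∈ A ⊔ B) : conjBy C x ∈ Om A B := by
  obtain ⟨y, hy, rfl⟩ := hC
  exact ⟨x * y, mul_mem hx hy, cj_cj⟩

theorem Om_le (hC : C ∈ Om A B) : C ≤ A ⊔ B := by
  obtain ⟨y, hy, rfl⟩ := hC
  exact cj_le le_sup_left hy

namespace R1

theorem Om_right (h : R1 A B) : B ∈ Om A B := h.mem_Om.2 (.inr ⟨1, one_mem _, cj_one.symm⟩)

theorem Om_symm (h : R1 A B) : Om B A = Om A B := by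
  ext C
  rw [h.mem_Om, h.symm.mem_Om]
  exact ⟨h.symm.swap_aux, h.swap_aux⟩

theorem two (h : R1 A B) (hC : C ∈ Om A B) (hD : D ∈ Om A B) (e : C ≠ D) :
    ∃ x ∈ A ⊔ B, conjBy A x = C ∧ conjBy B x = D := by
  obtain ⟨y, hy, rfl⟩ := hC
  rcases h.mem_Om.1 (Om_cj hD (inv_mem hy)) with h1 | ⟨a, ha, h1⟩
  · exact absurd (by rw [← h1, cj_cj_inv]) e
  · exact ⟨y * a, mul_mem hy (mem_sup_left ha), by rw [← cj_cj, cj_self ha],
      by rw [← cj_cj, ← h1, cj_cj_inv]⟩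

theorem pair (h : R1 A B) (hC : C ∈ Om A B) (hD : D ∈ Om A B) (e : C ≠ D) : R1 C D := by
  obtain ⟨x, -, rfl, rfl⟩ := h.two hC hD e
  exact h.conj x

theorem pair_sup (h : R1 A B) (hC : C ∈ Om A B) (hD : D ∈ Om A B) (e : C ≠ D) :
    C ⊔ D = A ⊔ B := by
  obtain ⟨x, hx, rfl, rfl⟩ := h.two hC hD e
  rw [← cj_sup, cj_self hx]

theorem pair_Om (h : R1 A B) (hC : C ∈ Om A B) (hD : D ∈ Om A B) (e : C ≠ D) :
    Om C D = Om A B := by
  ext E
  unfold Om unipotentSubgroups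
  rw [h.pair_sup hC hD e]
  obtain ⟨x, hx, rfl⟩ := hC
  exact ⟨fun ⟨y, hy, e⟩ => ⟨y * x, mul_mem hy hx, e.trans cj_cj⟩,
    fun ⟨y, hy, e⟩ => ⟨y * x⁻¹, mul_mem hy (inv_mem hx), by simpa [cj_cj] using e⟩⟩

theorem inf (h : R1 A B) (ha : a ∈ A) (hb : a ∈ B) : a = 1 := h.norm ha (cj_self hb)

theorem eq_of_mem (h : R1 A B) (hC : C ∈ Om A B) (hD : D ∈ Om A B) (h1 : x ∈ C) (h2 : x ∈ D)
    (x1 : x ≠ 1) : C = D := by
  by_contra e; exact x1 ((h.pair hC hD e).inf h1 h2)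

theorem not_comm (h : R1 A B) : ⁅A, B⁆ ≠ ⊥ := fun e => by
  obtain ⟨a, ha, a1⟩ := exists_ne_one h.ne_bot
  exact a1 (h.norm ha (cj_of_comm fun b hb => (comm_iff.1 e a ha b hb).symm))

theorem eq_of_comm (h : R1 A B) (hC : C ∈ Om A B) (hD : D ∈ Om A B) (e : ⁅C, D⁆ = ⊥) : C = D := by
  by_contra e'; exact (h.pair hC hD e').not_comm e

theorem cj_pair (h : R1 A B) (ha : a ∈ A) (a1 : a ≠ 1) : R1 B (conjBy B a) :=
  h.pair h.Om_right (Om_cj h.Om_right (mem_sup_left ha)) fun e => a1 (h.norm ha e.symm)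

theorem cj_sup' (h : R1 A B) (ha : a ∈ A) (a1 : a ≠ 1) : B ⊔ conjBy B a = A ⊔ B :=
  h.pair_sup h.Om_right (Om_cj h.Om_right (mem_sup_left ha)) fun e => a1 (h.norm ha e.symm)

theorem exists_swap (h : R1 A B) : ∃ w ∈ A ⊔ B, conjBy A w = B ∧ conjBy B w = A :=
  h.two h.Om_right Om_left h.ne.symm

theorem normal (h : R1 A B) {N : Subgroup G} (hN : N ≤ A ⊔ B) (hn : ∀ x ∈ A ⊔ B, conjBy N x = N) :
    (∀ n ∈ N, ∀ x ∈ A ⊔ B, n * x = x * n) ∨ B ≤ N ⊔ A := by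
  by_cases h1 : ∀ n ∈ N, ∀ C ∈ Om A B, conjBy C n = C
  · have k : ∀ n ∈ N, ∀ C ∈ Om A B, ∀ D ∈ Om A B, C ≠ D → ∀ c ∈ C, n * c = c * n :=
      fun n hn' C hC D hD e c hc => by
        rw [← commutatorElement_eq_one_iff_mul_comm, commutatorElement_def]
        refine (h.pair hC hD e).norm (mul_mem (h1 n hn' C hC ▸ cj_mem hc n) (inv_mem hc))
          (h1 _ ?_ D hD)
        have := mul_mem hn' (hn c (Om_le hC hc) ▸ cj_mem (inv_mem hn') c)
        simpa [mul_assoc] using this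
    exact .inl fun n hn => comm_elt (k n hn A Om_left B h.Om_right h.ne)
      (k n hn B h.Om_right A Om_left h.ne.symm)
  · push Not at h1
    obtain ⟨n, hn', C, hC, e⟩ := h1
    obtain ⟨x, hx, rfl, e'⟩ := h.two hC (Om_cj hC (hN hn')) e.symm
    rw [cj_cj] at e'
    rw [← cj_swap e'.symm]
    refine .inr (cj_le le_sup_right (mem_sup_left ?_))
    rw [← hn _ (inv_mem hx), ← mul_assoc]
    exact cj_mem' hn' x

end R1
end RS
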