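import Cfsg.Agent.RS.B

/-! Quadratic modules for rank one groups. -/
namespace RS
open Cfsg Subgroup

variable {G : Type*} [Group G] {A B C D : Subgroup G} {a b g x : G} {V : Type*} [AddCommGroup V]
  {ρ : G → V →+ V} {p v : V}

/-- quadratic module -/
structure QM (A B : Subgroup G) (ρ : G → V →+ V) : Prop where
  h : R1 A B
  m : ∀ x ∈ A ⊔ B, ∀ y ∈ A ⊔ B, ∀ v, ρ (x * y) v = ρ x (ρ y v)
  o : ∀ v, ρ 1 v = v
  q : ∀ a ∈ A, ∀ a' ∈ A, ∀ v, ρ a' (ρ a v - v) = ρ a v - v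

/-- fixed vectors -/
def Fix (ρ : G → V →+ V) (A : Subgroup G) (v : V) : Prop := ∀ a ∈ A, ρ a v = v

theorem Fix.add {w : V} (h : Fix ρ A v) (h' : Fix ρ A w) : Fix ρ A (v + w) := fun a ha => by
  rw [map_add, h a ha, h' a ha]

theorem Fix.sub {w : V} (h : Fix ρ A v) (h' : Fix ρ A w) : Fix ρ A (v - w) := fun a ha => by
  rw [map_sub, h a ha, h' a ha]

namespace QM

theorem inv (Q : QM A B ρ) (hx : x ∈ A ⊔ B) (v : V) : ρ x (ρ x⁻¹ v) = v := by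
  rw [← Q.m _ hx _ (inv_mem hx), mul_inv_cancel, Q.o]

theorem inv' (Q : QM A B ρ) (hx : x ∈ A ⊔ B) (v : V) : ρ x⁻¹ (ρ x v) = v := by
  simpa using Q.inv (inv_mem hx) v

theorem m3 (Q : QM A B ρ) {y z : G} (hx : x ∈ A ⊔ B) (hy : y ∈ A ⊔ B) (hz : z ∈ A ⊔ B) (v : V) :
    ρ (x * y * z) v = ρ x (ρ y (ρ z v)) := by
  rw [Q.m _ (mul_mem hx hy) _ hz, Q.m _ hx _ hy]

theorem fix_cj (Q : QM A B ρ) (hC : C ≤ A ⊔ B) (hx : x ∈ A ⊔ B) (h : Fix ρ C v) :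
    Fix ρ (conjBy C x) (ρ x v) := by
  rintro _ ⟨c, hc, rfl⟩
  change ρ (x * c * x⁻¹) _ = _
  rw [Q.m3 hx (hC hc) (inv_mem hx), Q.inv' hx, h c hc]

theorem pair (Q : QM A B ρ) (hC : C ∈ Om A B) (hD : D ∈ Om A B) (e : C ≠ D) : QM C D ρ := by
  refine ⟨Q.h.pair hC hD e, by rw [Q.h.pair_sup hC hD e]; exact Q.m, Q.o, ?_⟩
  obtain ⟨x, hx, rfl⟩ := hC
  rintro _ ⟨a, ha, rfl⟩ a' ha' v
  have := Q.fix_cj le_sup_left hx (fun a' ha' => Q.q a ha a' ha' (ρ x⁻¹ v)) a' ha'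
  rwa [map_sub (ρ x), Q.inv hx, ← Q.m3 hx (mem_sup_left ha) (inv_mem hx)] at this

theorem symm (Q : QM A B ρ) : QM B A ρ := Q.pair Q.h.Om_right Om_left Q.h.ne.symm

theorem fix_sup (Q : QM A B ρ) (h : Fix ρ A v) (h' : Fix ρ B v) : Fix ρ (A ⊔ B) v := fun x hx => by
  have hx' := hx
  rw [sup_eq_closure] at hx
  induction hx using closure_induction'' with
  | mem x hx => exact hx.elim (h x) (h' x)
  | inv_mem x hx => exact hx.elim (fun i => h _ (inv_mem i)) fun i => h' _ (inv_mem i)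
  | one => exact Q.o v
  | mul x y i j k l =>
    rw [← sup_eq_closure] at i j
    rw [Q.m _ i _ j, l j, k i]

theorem inv_eq (Q : QM A B ρ) (ha : a ∈ A) (v : V) : ρ a⁻¹ v = v - (ρ a v - v) := by
  have := Q.q _ (inv_mem ha) a ha v
  rw [map_sub, Q.inv (mem_sup_left ha)] at this
  linear_combination (norm := abel) -this

theorem key (Q : QM A B ρ) (ha : a ∈ A) (hb : b ∈ B) (e : conjBy A b⁻¹ = conjBy B a⁻¹)
    (hp : Fix ρ A p) : Fix ρ (A ⊔ B) (p - (ρ a (ρ b p - p) - (ρ b p - p))) := by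
  refine Q.fix_sup (hp.sub fun a' ha' => Q.q a ha a' ha' _) ?_
  have h1 := Q.fix_cj le_sup_left (inv_mem (mem_sup_right hb)) hp
  rw [e] at h1
  have h2 := Q.fix_cj (cj_le le_sup_right (inv_mem (mem_sup_left ha))) (mem_sup_left ha) h1
  rw [cj_cj_inv, Q.symm.inv_eq hb, map_sub, hp a ha] at h2
  have := h2.add fun b' hb' => Q.symm.q b hb b' hb' p
  rwa [show p - ρ a (ρ b p - p) + (ρ b p - p) = p - (ρ a (ρ b p - p) - (ρ b p - p)) by abel] at this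

theorem triv (Q : QM A B ρ) (hb : b ∈ B) (b1 : b ≠ 1) (h : ∀ p, Fix ρ A p → ρ b p = p) :
    ∀ x ∈ A ⊔ B, ∀ v, Fix ρ (A ⊔ B) (ρ x v - v) := by
  obtain ⟨a, ha, -, e⟩ := Q.h.cond_right b hb b1
  have h1 : ∀ p, Fix ρ A p → Fix ρ (A ⊔ B) p := fun p hp => by
    simpa [h p hp] using Q.key ha hb e.symm hp
  have h2 : ∀ p, Fix ρ B p → Fix ρ (A ⊔ B) p := fun p hp => by
    have := Q.symm.key hb ha e hp
    rwa [h _ fun a' ha' => Q.q a ha a' ha' p, sub_self, sub_zero, sup_comm] at this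
  have k : ∀ x ∈ (A : Set G) ∪ B, ∀ v, Fix ρ (A ⊔ B) (ρ x v - v) := fun x hx v =>
    hx.elim (fun i => h1 _ fun a' ha' => Q.q x i a' ha' v)
      fun i => h2 _ fun a' ha' => Q.symm.q x i a' ha' v
  intro x hx
  rw [sup_eq_closure] at hx
  induction hx using closure_induction'' with
  | mem x hx => exact k x hx
  | inv_mem x hx => exact k _ (hx.imp inv_mem inv_mem)
  | one => exact fun v y _ => by simp [Q.o]
  | mul x y i j k l =>
    rw [← sup_eq_closure] at i j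
    intro v
    have := (k (ρ y v)).add (l v)
    rwa [sub_add_sub_cancel, ← Q.m _ i _ j] at this

theorem special (Q : QM A B ρ) (hX : ¬ ∀ x ∈ A ⊔ B, ∀ v, Fix ρ (A ⊔ B) (ρ x v - v)) :
    IsSpecialRankOnePair A B := by
  refine ⟨Q.h, fun a ha _ b hb b1 e => ?_⟩
  by_contra hc
  have a' : a ∈ A ⊔ B := mem_sup_left ha
  have b' : b ∈ A ⊔ B := mem_sup_right hb
  have hD : conjBy A b⁻¹ ∈ Om A B := Om_cj Om_left (inv_mem b')
  have ne := (Q.h.symm.cj_pair (inv_mem hb) (by simpa)).ne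
  have i1 : a⁻¹ * b⁻¹ * a ∈ conjBy A b⁻¹ := e ▸ cj_mem' (inv_mem hb) a
  rw [← Q.h.pair_sup Om_left hD ne] at hX
  refine hX ((Q.pair Om_left hD ne).triv (mul_mem (inv_mem i1) (cj_mem' ha b))
    (fun e => hc (inv_mul_eq_one.1 e).symm) fun p hp => ?_)
  have k := Q.key ha hb e hp _ (inv_mem b')
  have : ρ (b⁻¹ * a * b) p = ρ (a⁻¹ * b⁻¹ * a) p := by
    have k1 := Q.symm.q b hb _ (inv_mem hb) p
    rw [Q.m3 (inv_mem b') a' b', Q.m3 (inv_mem a') (inv_mem b') a', hp a ha, Q.symm.inv_eq hb p,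
      map_sub (ρ a⁻¹), hp _ (inv_mem ha), Q.inv_eq ha, ← sub_add_cancel (ρ b p) p, map_add, hp a ha,
      add_sub_cancel_right, map_add]
    rw [map_sub, map_sub, k1] at k
    have k2 := Q.symm.inv_eq hb p
    linear_combination (norm := abel) k2 + k2 - k
  rw [Q.m _ (inv_mem (Om_le hD i1)) _ (Om_le hD (cj_mem' ha b)), this, Q.inv' (Om_le hD i1)]

end QM
end RS
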