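import Cfsg.Agent.RS.Q

/-! Abstract root subgroups. -/
namespace RS
open Cfsg Subgroup
open scoped commutatorElement

variable {G : Type*} [Group G] {S : Set (Subgroup G)} {A B C D E F : Subgroup G} {a b c d g x z : G}

theorem cj_le_comm (hb : b ∈ B) : conjBy A b ≤ A ⊔ ⁅A, B⁆ := by
  rintro _ ⟨a, ha, rfl⟩
  have := mul_mem (mem_sup_right (S := A) (inv_mem (commutator_mem_commutator ha hb))) (mem_sup_left ha)
  simpa [commutatorElement_def, mul_assoc] using this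

theorem cen_of (h : ⁅A, B⁆ = ⊥) (ha : a ∈ A) (hb : b ∈ B) : a * b = b * a := comm_iff.1 h a ha b hb

/-- the commutator case -/
structure T3 (S : Set (Subgroup G)) (A B : Subgroup G) : Prop where
  mem : ⁅A, B⁆ ∈ S
  cA : ⁅⁅A, B⁆, A⁆ = ⊥
  cB : ⁅⁅A, B⁆, B⁆ = ⊥
  sA : ∀ a ∈ A, a ≠ 1 → ∀ c ∈ ⁅A, B⁆, ∃ b ∈ B, ⁅a, b⁆ = c
  sB : ∀ b ∈ B, b ≠ 1 → ∀ c ∈ ⁅A, B⁆, ∃ a ∈ A, ⁅a, b⁆ = c

theorem T3.symm (h : T3 S A B) : T3 S B A := by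
  have e := commutator_comm B A
  refine ⟨e ▸ h.mem, e ▸ h.cB, e ▸ h.cA, fun b hb b1 c hc => ?_, fun b hb b1 c hc => ?_⟩
  · obtain ⟨a, ha, e'⟩ := h.sB b hb b1 _ (inv_mem (e ▸ hc))
    exact ⟨a, ha, by rw [← commutatorElement_inv, e', inv_inv]⟩
  · obtain ⟨a, ha, e'⟩ := h.sA b hb b1 _ (inv_mem (e ▸ hc))
    exact ⟨a, ha, by rw [← commutatorElement_inv, e', inv_inv]⟩

theorem comm_mul_right (h : ⁅⁅A, B⁆, B⁆ = ⊥) (ha : a ∈ A) (hb : b ∈ B) (hc : c ∈ B) :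
    ⁅a, b * c⁆ = ⁅a, b⁆ * ⁅a, c⁆ := by
  have := cen_of h (commutator_mem_commutator ha hc) hb
  calc _ = ⁅a, b⁆ * (b * ⁅a, c⁆) * b⁻¹ := by simp only [commutatorElement_def]; group
    _ = _ := by rw [← this]; group

theorem comm_inv_right (h : ⁅⁅A, B⁆, B⁆ = ⊥) (ha : a ∈ A) (hb : b ∈ B) : ⁅a, b⁻¹⁆ = ⁅a, b⁆⁻¹ :=
  eq_inv_of_mul_eq_one_left (by rw [← comm_mul_right h ha (inv_mem hb) hb]; simp)

theorem t3_of (h : RootCommutatorCase S A B) : T3 S A B := by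
  have k : ∀ {A B : Subgroup G}, ⁅⁅A, B⁆, B⁆ = ⊥ → ∀ a ∈ A, ∀ c ∈ closure ((⁅a, ·⁆) '' (B : Set G)),
      ∃ b ∈ B, ⁅a, b⁆ = c := fun {A B} h a ha c hc => by
    induction hc using closure_induction with
    | mem _ i => exact i
    | one => exact ⟨1, one_mem _, by simp⟩
    | mul _ _ _ _ i j =>
      obtain ⟨b, hb, rfl⟩ := i
      obtain ⟨c, hc, rfl⟩ := j
      exact ⟨_, mul_mem hb hc, comm_mul_right h ha hb hc⟩
    | inv _ _ i =>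
      obtain ⟨b, hb, rfl⟩ := i
      exact ⟨_, inv_mem hb, comm_inv_right h ha hb⟩
  have cA : ⁅⁅A, B⁆, A⁆ = ⊥ := comm_iff.2 fun c hc a ha => h.2.1 c hc a (mem_sup_left ha)
  have cB : ⁅⁅A, B⁆, B⁆ = ⊥ := comm_iff.2 fun c hc a ha => h.2.1 c hc a (mem_sup_right ha)
  refine ⟨h.1, cA, cB, fun a ha a1 c hc => k cB a ha c ((h.2.2.1 a ha a1).ge hc),
    fun b hb b1 c hc => ?_⟩
  have : c⁻¹ ∈ closure ((⁅b, ·⁆) '' (A : Set G)) := by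
    refine inv_mem ((closure_le _).2 ?_ ((h.2.2.2 b hb b1).ge hc))
    rintro _ ⟨a, ha, rfl⟩
    exact (Subgroup.inv_mem_iff _).1 (subset_closure ⟨a, ha, (commutatorElement_inv _ _).symm⟩)
  obtain ⟨a, ha, e⟩ := k (commutator_comm A B ▸ cA) b hb _ this
  exact ⟨a, ha, by rw [← commutatorElement_inv, e, inv_inv]⟩

theorem T3.rc (h : T3 S A B) : RootCommutatorCase S A B :=
  ⟨h.mem, comm_iff.1 (comm_sup h.cA h.cB), fun a ha a1 => le_antisymm ((closure_le _).2 (by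
    rintro _ ⟨b, hb, rfl⟩; exact commutator_mem_commutator ha hb)) fun c hc =>
      subset_closure (h.sA a ha a1 c hc), fun b hb a1 => le_antisymm ((closure_le _).2 (by
    rintro _ ⟨a, ha, rfl⟩; exact commutator_mem_commutator ha hb)) fun c hc =>
      subset_closure (h.sB b hb a1 c hc)⟩

/-- root subgroups -/
abbrev Rt (S : Set (Subgroup G)) : Prop := IsRootSubgroupSet S

/-- not isolated -/
def NI (S : Set (Subgroup G)) (A : Subgroup G) : Prop := A ∈ S ∧ ∃ B ∈ S, R1 A B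

theorem ni_iff (hA : A ∈ S) : ¬ IsIsolatedIn (FAdj S) S A ↔ NI S A := by
  refine ⟨fun h => ⟨hA, ?_⟩, fun ⟨_, B, hB, h⟩ h' => (h'.2 B).1 ⟨hA, hB, h⟩⟩
  by_contra! h'
  exact h ⟨hA, fun B => ⟨fun i => h' B i.2.1 i.2.2, fun i => h' B i.1 (R1.symm i.2.2)⟩⟩

namespace Rt

theorem ab (hS : Rt S) (hA : A ∈ S) : ⁅A, A⁆ = ⊥ := comm_iff.2 fun x hx y hy =>
  congrArg Subtype.val ((hS.commutative A hA).is_comm.comm ⟨x, hx⟩ ⟨y, hy⟩)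

theorem cj (hS : Rt S) (hA : A ∈ S) (g : G) : conjBy A g ∈ S := hS.conj_mem A hA g

theorem ex (hS : Rt S) (hA : A ∈ S) : ∃ a ∈ A, a ≠ 1 := exists_ne_one (hS.ne_bot A hA)

theorem tri (hS : Rt S) (hA : A ∈ S) (hB : B ∈ S) : ⁅A, B⁆ = ⊥ ∨ R1 A B ∨ T3 S A B :=
  (hS.pair A hA B hB).imp_right (Or.imp_right t3_of)

theorem Om_mem (hS : Rt S) (hA : A ∈ S) (hC : C ∈ Om A B) : C ∈ S := by
  obtain ⟨x, -, rfl⟩ := hC; exact hS.cj hA x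

theorem ni_cj (hS : Rt S) (h : NI S A) (g : G) : NI S (conjBy A g) :=
  let ⟨i, B, j, k⟩ := h
  ⟨hS.cj i g, _, hS.cj j g, k.conj g⟩

theorem comm_cj (hS : Rt S) (hA : A ∈ S) (hB : B ∈ S) (h : ¬ R1 A B) (hb : b ∈ B) :
    ⁅A, conjBy A b⁆ = ⊥ := by
  refine comm_mono (comm_sup (hS.ab hA) ?_) le_rfl (cj_le_comm hb)
  rcases hS.tri hA hB with h1 | h1 | h1
  · rw [h1]; simp
  · exact absurd h1 h
  · exact comm_symm h1.cA

theorem opp (hS : Rt S) (hA : A ∈ S) (hB : B ∈ S) (hb : b ∈ B) (h : R1 A (conjBy A b)) : R1 A B := by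
  by_contra h'; exact h.not_comm (hS.comm_cj hA hB h' hb)

theorem mem_Om (hS : Rt S) (hA : A ∈ S) (hC : C ∈ S) (h : R1 C D) (hle : A ≤ C ⊔ D)
    (hn : ⁅A, C ⊔ D⁆ ≠ ⊥) : A ∈ Om C D := by
  by_cases h1 : ∃ E ∈ Om C D, R1 A E
  · obtain ⟨E, hE, h1⟩ := h1
    obtain ⟨a, ha, e, he, -, -, e'⟩ := h1.ex
    rw [← cj_swap e'.symm]
    exact Om_cj hE (mul_mem (inv_mem (Om_le hE he)) (hle ha))
  push Not at h1
  have k : ∀ E ∈ Om C D, ∀ a ∈ A, conjBy E a = E := fun E hE a ha =>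
    (h.eq_of_comm hE (Om_cj hE (hle ha)) (hS.comm_cj (hS.Om_mem hC hE) hA
      (fun i => h1 E hE i.symm) ha)).symm
  have k2 : ∀ E ∈ Om C D, ∀ F ∈ Om C D, E ≠ F → ⁅A, E⁆ = ⊥ := fun E hE F hF ne =>
    comm_iff.2 fun a ha e he => by
      rw [← commutatorElement_eq_one_iff_mul_comm]
      refine (h.pair hE hF ne).norm (mul_mem (k E hE a ha ▸ cj_mem he a) (inv_mem he)) ?_
      rw [commutatorElement_def, ← cj_cj, ← cj_cj, k _ (Om_cj hF (inv_mem (Om_le hE he))) _ (inv_mem ha),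
        ← cj_cj, cj_cj_inv, k F hF a ha]
  exact absurd (comm_sup (k2 C Om_left D h.Om_right h.ne) (k2 D h.Om_right C Om_left h.ne.symm)) hn

theorem cen (hS : Rt S) (hB : B ∈ S) (h : R1 A B) (hz : ∀ y ∈ A ⊔ B, z * y = y * z)
    (ha : a ∈ A) (a1 : a ≠ 1) (hC : C ∈ S) (hc : z * a ∈ C) : z = 1 := by
  have zB : conjBy B z = B := cj_of_comm fun y hy => (hz y (mem_sup_right hy)).symm
  have zA : conjBy A z = A := cj_of_comm fun y hy => (hz y (mem_sup_left hy)).symm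
  have e : conjBy B (z * a) = conjBy B a := by rw [hz a (mem_sup_left ha), ← cj_cj, zB]
  have h1 := hS.opp hB hC hc (e ▸ h.cj_pair ha a1)
  have n1 : z * a ≠ 1 := fun i => (h.cj_pair ha a1).ne (by rw [← e, i, cj_one])
  obtain ⟨b, hb, -, e1⟩ := h.left ha a1
  obtain ⟨b', hb', -, e2⟩ := h1.symm.left hc n1
  have hC' : C ∈ Om A B := cj_swap (e1.trans (e.symm.trans e2.symm)) ▸
    Om_cj Om_left (mem_sup_right (mul_mem (inv_mem hb') hb))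
  by_cases e3 : C = A
  · exact h.norm ((A.mul_mem_cancel_right ha).1 (e3.le hc)) zB
  · exact absurd ((h.pair hC' Om_left e3).norm hc (by rw [← cj_cj, cj_self ha, zA])) n1

theorem eq_of_mem (hS : Rt S) (hA : NI S A) (hB : B ∈ S) (h1 : x ∈ A) (h2 : x ∈ B) (x1 : x ≠ 1) :
    A = B := by
  obtain ⟨-, C, hC, h⟩ := hA
  have h3 := hS.opp hC hB h2 (h.cj_pair h1 x1)
  obtain ⟨b, hb, -, e1⟩ := h.left h1 x1
  obtain ⟨b', hb', -, e2⟩ := h3.symm.left h2 x1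
  exact h.eq_of_mem Om_left (cj_swap (e1.trans e2.symm) ▸
    Om_cj Om_left (mem_sup_right (mul_mem (inv_mem hb') hb))) h1 h2 x1

theorem t3 (hS : Rt S) (hA : A ∈ S) (hB : B ∈ S) (hC : ⁅A, B⁆ ∈ S) : T3 S A B := by
  rcases hS.tri hA hB with h | h | h
  · exact absurd h (hS.ne_bot _ hC)
  swap
  · exact h
  exfalso
  have le : ⁅A, B⁆ ≤ A ⊔ B := commutator_le.2 fun a ha b hb => mul_mem (mul_mem (mul_mem
    (mem_sup_left ha) (mem_sup_right hb)) (mem_sup_left (inv_mem ha))) (mem_sup_right (inv_mem hb))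
  obtain ⟨a, ha, b, hb, a1, b1, -⟩ := h.ex
  have k := cj_le_comm (A := A) hb
  have k1 := h.symm.cj_pair hb b1
  by_cases e : ⁅⁅A, B⁆, A ⊔ B⁆ = ⊥
  · exact k1.not_comm (comm_mono (comm_sup (hS.ab hA) (comm_symm (comm_mono e le_rfl le_sup_left)))
      le_rfl k)
  · have := hS.mem_Om hC hA h le e
    have k2 : ∀ {A B : Subgroup G}, ∀ x ∈ A, conjBy ⁅A, B⁆ x = ⁅A, B⁆ := fun x hx =>
      cj_eq_iff.2 (normalizer_commutator_ge_left _ _ hx)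
    by_cases e1 : ⁅A, B⁆ = A
    · exact b1 (h.symm.norm hb (e1 ▸ commutator_comm A B ▸ k2 b hb))
    · exact a1 ((h.pair Om_left this (Ne.symm e1)).norm ha (k2 a ha))

theorem inj (hS : Rt S) (hA : NI S A) (h : T3 S A B) (ha : a ∈ A) (hb : b ∈ B) (a1 : a ≠ 1)
    (e : ⁅a, b⁆ = 1) : b = 1 := by
  by_contra b1
  have e1 := hS.eq_of_mem hA (hS.cj hA.1 b) ha (by
    rw [mem_cj, mul_assoc, commutatorElement_eq_one_iff_mul_comm.1 e]; simpa) a1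
  have le : ⁅A, B⁆ ≤ A := fun c hc => by
    obtain ⟨a, ha, rfl⟩ := h.sB b hb b1 c hc
    have := mul_mem ha (e1.ge (cj_mem (inv_mem ha) b))
    simpa [commutatorElement_def, mul_assoc] using this
  obtain ⟨c, hc, c1⟩ := hS.ex h.mem
  exact hS.ne_bot _ h.mem (eq_bot_iff.2 ((commutator_mono
    (hS.eq_of_mem hA h.mem (le hc) hc c1).le le_rfl).trans h.cB.le))

theorem uniq (hS : Rt S) (hA : NI S A) (h : T3 S A B) (ha : a ∈ A) (hb : b ∈ B) (hc : c ∈ B)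
    (a1 : a ≠ 1) (e : ⁅a, b⁆ = ⁅a, c⁆) : b = c :=
  mul_inv_eq_one.1 (hS.inj hA h ha (mul_mem hb (inv_mem hc)) a1 (by
    rw [comm_mul_right h.cB ha hb (inv_mem hc), comm_inv_right h.cB ha hc, e, mul_inv_cancel]))

end Rt

theorem mem_sup_comm (h : ⁅A, B⁆ = ⊥) : x ∈ A ⊔ B ↔ ∃ a ∈ A, ∃ b ∈ B, a * b = x := by
  refine ⟨fun hx => ?_, fun ⟨a, ha, b, hb, e⟩ => e ▸ mul_mem (mem_sup_left ha) (mem_sup_right hb)⟩
  have : (x : G) ∈ ((A ⊔ B : Subgroup G) : Set G) := hx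
  rwa [coe_mul_of_right_le_normalizer_left _ _ fun b hb =>
    cj_eq_iff.1 (cj_of_comm fun a ha => cen_of h ha hb)] at this

theorem T3.mul_mem (h : T3 S A B) (ha : a ∈ A) (a1 : a ≠ 1) (hc : c ∈ ⁅A, B⁆) :
    ∃ b ∈ B, a * c ∈ conjBy A b := by
  obtain ⟨b, hb, rfl⟩ := h.sA _ (inv_mem ha) (inv_ne_one.2 a1) c hc
  exact ⟨b, hb, by simpa [commutatorElement_def, mul_assoc] using cj_mem ha b⟩

theorem T3.cj_sup (h : T3 S A B) (hb : b ∈ B) : conjBy A b ⊔ ⁅A, B⁆ = A ⊔ ⁅A, B⁆ := by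
  have : conjBy ⁅A, B⁆ b = ⁅A, B⁆ := cj_of_comm fun c hc => cen_of h.cB hc hb
  refine le_antisymm (sup_le (cj_le_comm hb) le_sup_right) (sup_le ?_ le_sup_right)
  have k := cj_mono (g := b) (cj_le_comm (A := A) (inv_mem hb))
  rwa [cj_cj_inv, RS.cj_sup, this] at k

namespace Rt

theorem le_eq (hS : Rt S) (hA : NI S A) (h : T3 S A B) (hD : D ∈ S) (le : D ≤ ⁅A, B⁆) :
    D = ⁅A, B⁆ := by
  obtain ⟨hA', F, hF, h1⟩ := hA
  obtain ⟨d, hd, d1⟩ := hS.ex hD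
  obtain ⟨a, ha, a1⟩ := hS.ex hA'
  have k : ∀ E ∈ S, d ∈ E → E ≤ ⁅A, B⁆ → R1 F E ∨ T3 S F E := fun E hE i j =>
    (hS.tri hF hE).resolve_left fun e => by
      obtain ⟨b, -, hb⟩ := h.mul_mem ha a1 (j i)
      have l := fun a => cen_of (b := a) h.cA (j i)
      exact d1 (hS.cen hF h1 (comm_elt l fun _ y => (cen_of e y i).symm) ha a1
        (hS.cj hA' b) (l a ha ▸ hb))
  rcases k D hD hd le with i | i
  · exact hS.eq_of_mem ⟨hD, F, hF, i.symm⟩ h.mem hd (le hd) d1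
  rcases k _ h.mem (le hd) le_rfl with j | j
  · exact (hS.eq_of_mem ⟨h.mem, F, hF, j.symm⟩ hD (le hd) hd d1).symm
  refine le_antisymm le fun c hc => ?_
  obtain ⟨f, hf, f1⟩ := hS.ex hF
  obtain ⟨f', hf', e⟩ := j.sB d (le hd) d1 _ (commutator_mem_commutator hf hc)
  obtain ⟨d', hd', e'⟩ := i.sA f hf f1 _ (commutator_mem_commutator hf' hd)
  exact hS.uniq ⟨hF, A, hA', h1.symm⟩ j hf (le hd') hc f1 (e'.trans e) ▸ hd'

theorem members (hS : Rt S) (hA : NI S A) (h : T3 S A B) (hD : D ∈ S) (le : D ≤ A ⊔ ⁅A, B⁆) :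
    (∃ b ∈ B, conjBy A b = D) ∨ D = ⁅A, B⁆ := by
  by_cases e : D ≤ ⁅A, B⁆
  · exact .inr (hS.le_eq hA h hD e)
  obtain ⟨d, hd, n⟩ := SetLike.not_le_iff_exists.1 e
  obtain ⟨a, ha, c, hc, rfl⟩ := (mem_sup_comm (comm_symm h.cA)).1 (le hd)
  obtain ⟨b, hb, i⟩ := h.mul_mem ha (by rintro rfl; simp [hc] at n) hc
  exact .inl ⟨b, hb, hS.eq_of_mem (hS.ni_cj hA b) hD i hd fun e => n (e ▸ one_mem _)⟩

theorem ne_comm (hS : Rt S) (h : T3 S A B) : A ≠ ⁅A, B⁆ := fun e =>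
  hS.ne_bot _ h.mem (eq_bot_iff.2 ((commutator_mono e.le le_rfl).trans h.cB.le))

theorem part (hS : Rt S) (hA : NI S A) (h : T3 S A B) :
    IsSubgroupPartition (A ⊔ ⁅A, B⁆) (membersIn S (A ⊔ ⁅A, B⁆)) := by
  refine ⟨fun C i => i.2, fun x hx _ => ?_, fun C i D j e => eq_bot_iff.2 fun x hx => ?_⟩
  · obtain ⟨a, ha, c, hc, rfl⟩ := (mem_sup_comm (comm_symm h.cA)).1 hx
    by_cases a1 : a = 1
    · exact ⟨_, ⟨h.mem, le_sup_right⟩, by simpa [a1]⟩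
    · obtain ⟨b, hb, i⟩ := h.mul_mem ha a1 hc
      exact ⟨_, ⟨hS.cj hA.1 b, cj_le_comm hb⟩, i⟩
  · by_contra x1
    rcases hS.members hA h i.1 i.2 with ⟨b, -, rfl⟩ | rfl
    · exact e (hS.eq_of_mem (hS.ni_cj hA b) j.1 hx.1 hx.2 x1)
    rcases hS.members hA h j.1 j.2 with ⟨b, -, rfl⟩ | rfl
    · exact e (hS.eq_of_mem (hS.ni_cj hA b) i.1 hx.2 hx.1 x1).symm
    · exact e rfl

end Rt

/-- line partners -/
abbrev Ln (S : Set (Subgroup G)) (A B : Subgroup G) : Prop := B ∈ linePartners S A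

namespace Ln
theorem mem (h : Ln S A B) : B ∈ S := h.1.1
theorem ne (h : Ln S A B) : B ≠ A := h.1.2.1
theorem comm (h : Ln S A B) : ⁅A, B⁆ = ⊥ := h.1.2.2
theorem symm (hA : A ∈ S) (h : Ln S A B) : Ln S B A :=
  ⟨⟨hA, h.ne.symm, comm_symm h.comm⟩, sup_comm A B ▸ h.2⟩
theorem ex (h : Ln S A B) (hx : x ∈ A ⊔ B) (x1 : x ≠ 1) : ∃ D ∈ S, D ≤ A ⊔ B ∧ x ∈ D :=
  let ⟨D, i, j⟩ := h.2.2.1 x hx x1
  ⟨D, i.1, i.2, j⟩
theorem eq (h : Ln S A B) (hC : C ∈ S) (hD : D ∈ S) (i : C ≤ A ⊔ B) (j : D ≤ A ⊔ B) (h1 : x ∈ C)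
    (h2 : x ∈ D) (x1 : x ≠ 1) : C = D := by
  by_contra e; exact x1 ((h.2.2.2 C ⟨hC, i⟩ D ⟨hD, j⟩ e).le ⟨h1, h2⟩)
theorem of_eq (h : Ln S A B) (hD : D ∈ S) (ne : D ≠ C) (e : C ⊔ D = A ⊔ B) (c : ⁅C, D⁆ = ⊥) :
    Ln S C D := ⟨⟨hD, ne, c⟩, e ▸ h.2⟩
theorem ab (h : Ln S A B) (hS : Rt S) (hA : A ∈ S) : ⁅A ⊔ B, A ⊔ B⁆ = ⊥ :=
  comm_sup (sup_comm' (hS.ab hA) (comm_symm h.comm)) (sup_comm' h.comm (hS.ab h.mem))
theorem conj (h : Ln S A B) (hS : Rt S) (g : G) : Ln S (conjBy A g) (conjBy B g) := by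
  refine ⟨⟨hS.cj h.mem g, fun e => h.ne (cj_inj e), comm_cj h.comm g⟩, fun C i => i.2, ?_,
    fun C i D j e => ?_⟩ <;> rw [← cj_sup] at *
  · rintro _ ⟨x, hx, rfl⟩ x1
    obtain ⟨D, i, j, k⟩ := h.ex hx (by rintro rfl; simp at x1)
    exact ⟨_, ⟨hS.cj i g, cj_mono j⟩, cj_mem k g⟩
  · refine eq_bot_iff.2 fun x hx => ?_
    by_contra x1
    exact e (cj_inj (h.eq (hS.cj i.1 g⁻¹) (hS.cj j.1 g⁻¹) (cj_inv_cj (A := A ⊔ B) ▸ cj_mono i.2)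
      (cj_inv_cj (A := A ⊔ B) ▸ cj_mono j.2) (cj_mem hx.1 _) (cj_mem hx.2 _) (mt conj_eq_one_iff.1 x1)))
end Ln

theorem Rt.ln (hS : Rt S) (hA : NI S A) (h : T3 S A B) : Ln S ⁅A, B⁆ A :=
  ⟨⟨hA.1, hS.ne_comm h, h.cA⟩, sup_comm A _ ▸ hS.part hA h⟩

theorem Rt.ln' (hS : Rt S) (hA : NI S A) (h : T3 S A B) : Ln S A ⁅A, B⁆ := (hS.ln hA h).symm h.mem

end RS
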